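import Mathlib
import Groth.Prelude.Def_Fitting
import Groth.Agent.Lib.Helper10.Fitting
import Groth.Agent.Lib.Helper10.FittingC

set_option autoImplicit false

namespace Groth.Agent.Helper19.FittSum

open Matrix Finset Groth.Agent.Lib.Helper10.Fitting

universe u

variable {R : Type*} [CommRing R] {M : Type*} [AddCommGroup M] [Module R M]
  {M' : Type*} [AddCommGroup M'] [Module R M']

lemma Jf_mono {ι : Type*} [Fintype ι] [DecidableEq ι] (x : ι → M) {k k' : ℕ} (h : k ≤ k') :
    Jf (R := R) x k ≤ Jf x k' := by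
  refine Ideal.span_mono ?_
  rintro d ⟨a, S, hS, hrel, rfl⟩
  exact ⟨a, S, hS.trans h, hrel, rfl⟩

/-- the family on the direct sum -/
def sumFam (R : Type*) [CommRing R] {M : Type*} [AddCommGroup M] [Module R M]
    {M' : Type*} [AddCommGroup M'] [Module R M'] {ι ι' : Type*} (x : ι → M) (x' : ι' → M') :
    ι ⊕ ι' → M × M' :=
  Sum.elim (fun j => LinearMap.inl R M M' (x j)) (fun j => LinearMap.inr R M M' (x' j))

lemma isRel_sumFam_iff {ι ι' : Type*} [Fintype ι] [Fintype ι'] (x : ι → M) (x' : ι' → M')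
    (v : ι ⊕ ι' → R) :
    IsRel (sumFam R x x') v ↔ IsRel x (v ∘ Sum.inl) ∧ IsRel x' (v ∘ Sum.inr) := by
  unfold IsRel sumFam
  rw [Fintype.sum_sum_type]
  simp only [Sum.elim_inl, Sum.elim_inr, Function.comp_apply]
  have h1 : (∑ j, v (Sum.inl j) • (LinearMap.inl R M M') (x j) +
      ∑ j', v (Sum.inr j') • (LinearMap.inr R M M') (x' j')) =
      (∑ j, v (Sum.inl j) • x j, ∑ j', v (Sum.inr j') • x' j') := by
    ext
    · simp [Prod.fst_sum]
    · simp [Prod.snd_sum]
  rw [h1, Prod.mk_eq_zero]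

lemma mul_le_Jf_sumFam {ι ι' : Type*} [Fintype ι] [DecidableEq ι] [Fintype ι'] [DecidableEq ι']
    (x : ι → M) (x' : ι' → M') (k k' : ℕ) :
    Jf (R := R) x k * Jf x' k' ≤ Jf (sumFam R x x') (k + k') := by
  unfold Jf
  rw [Ideal.span_mul_span']
  refine Ideal.span_le.2 ?_
  rintro d hd
  obtain ⟨d₁, ⟨a, S, hS, hrel, rfl⟩, d₂, ⟨a', S', hS', hrel', rfl⟩, rfl⟩ := Set.mem_mul.1 hd
  refine Ideal.subset_span ⟨Matrix.fromBlocks a 0 0 a', S.disjSum S', ?_, ?_, ?_⟩
  · rw [Finset.card_disjSum]; omega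
  · rintro (i | i) hi
    · have hi' : i ∉ S := fun h => hi (Finset.inl_mem_disjSum.2 h)
      rw [isRel_sumFam_iff]
      refine ⟨?_, ?_⟩
      · have h1 : (Matrix.fromBlocks a 0 0 a' (Sum.inl i)) ∘ Sum.inl = a i := by
          funext j; simp
        rw [h1]; exact hrel i hi'
      · have h1 : (Matrix.fromBlocks a 0 0 a' (Sum.inl i)) ∘ Sum.inr = 0 := by
          funext j; simp
        rw [h1]; unfold IsRel; simp
    · have hi' : i ∉ S' := fun h => hi (Finset.inr_mem_disjSum.2 h)
      rw [isRel_sumFam_iff]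
      refine ⟨?_, ?_⟩
      · have h1 : (Matrix.fromBlocks a 0 0 a' (Sum.inr i)) ∘ Sum.inl = 0 := by
          funext j; simp
        rw [h1]; unfold IsRel; simp
      · have h1 : (Matrix.fromBlocks a 0 0 a' (Sum.inr i)) ∘ Sum.inr = a' i := by
          funext j; simp
        rw [h1]; exact hrel' i hi'
  · rw [Matrix.det_fromBlocks_zero₂₁]

lemma Jf_sumFam_le {ι ι' : Type*} [Fintype ι] [DecidableEq ι] [Fintype ι'] [DecidableEq ι']
    (x : ι → M) (x' : ι' → M') (l : ℕ) :
    Jf (R := R) (sumFam R x x') l ≤ ∑ k ∈ Finset.range (l + 1), Jf x k * Jf x' (l - k) := by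
  classical
  refine Ideal.span_le.2 ?_
  rintro d ⟨a, S, hS, hrel, rfl⟩
  let G : ι ⊕ ι' → Set (ι ⊕ ι' → R) := fun i =>
    {w | (∃ u : ι → R, (i ∉ S → IsRel x u) ∧ w = Sum.elim u (0 : ι' → R)) ∨
         (∃ u' : ι' → R, (i ∉ S → IsRel x' u') ∧ w = Sum.elim (0 : ι → R) u')}
  have ha : ∀ i, a i ∈ Submodule.span R (G i) := by
    intro i
    have hdec : a i = Sum.elim (a i ∘ Sum.inl) (0 : ι' → R) + Sum.elim (0 : ι → R) (a i ∘ Sum.inr) := by
      funext j
      rcases j with j | j <;> simp
    have hm1 : Sum.elim (a i ∘ Sum.inl) (0 : ι' → R) ∈ Submodule.span R (G i) := by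
      apply Submodule.subset_span
      left
      refine ⟨a i ∘ Sum.inl, fun hi => ?_, rfl⟩
      exact ((isRel_sumFam_iff x x' (a i)).1 (hrel i hi)).1
    have hm2 : Sum.elim (0 : ι → R) (a i ∘ Sum.inr) ∈ Submodule.span R (G i) := by
      apply Submodule.subset_span
      right
      refine ⟨a i ∘ Sum.inr, fun hi => ?_, rfl⟩
      exact ((isRel_sumFam_iff x x' (a i)).1 (hrel i hi)).2
    have := Submodule.add_mem _ hm1 hm2
    rw [← hdec] at this
    exact this
  have hmem := det_mem_span G a ha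
  have hgen : ∀ b : Matrix (ι ⊕ ι') (ι ⊕ ι') R, (∀ i, b i ∈ G i) →
      b.det ∈ ∑ k ∈ Finset.range (l + 1), Jf (R := R) x k * Jf x' (l - k) := by
    intro b hb
    let P₁ : ι ⊕ ι' → Prop := fun r => ∃ u : ι → R, (r ∉ S → IsRel x u) ∧ b r = Sum.elim u (0 : ι' → R)
    have hP₂ : ∀ r, ¬ P₁ r → ∃ u' : ι' → R, (r ∉ S → IsRel x' u') ∧ b r = Sum.elim (0 : ι → R) u' := by
      intro r hr
      rcases hb r with h | h
      · exact absurd h hr
      · exact h
    by_cases hE : ∃ e : Equiv.Perm (ι ⊕ ι'),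
        (∀ i, P₁ (e (Sum.inl i))) ∧ (∀ i', ¬ P₁ (e (Sum.inr i')))
    · obtain ⟨e, he₁, he₂⟩ := hE
      let B₁ : Matrix ι ι R := fun i j => b (e (Sum.inl i)) (Sum.inl j)
      let B₂ : Matrix ι' ι' R := fun i j => b (e (Sum.inr i)) (Sum.inr j)
      have hblock : b.submatrix e id = Matrix.fromBlocks B₁ 0 0 B₂ := by
        ext r c
        rcases r with i | i <;> rcases c with j | j
        · simp [B₁]
        · obtain ⟨u, -, hu⟩ := he₁ i
          simp [hu]
        · obtain ⟨u', -, hu'⟩ := hP₂ _ (he₂ i)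
          simp [hu']
        · simp [B₂]
      let S₁ : Finset ι := Finset.univ.filter (fun i => e (Sum.inl i) ∈ S)
      let S₂ : Finset ι' := Finset.univ.filter (fun i => e (Sum.inr i) ∈ S)
      have hcard : S₁.card + S₂.card ≤ l := by
        rw [← Finset.card_disjSum]
        refine le_trans (Finset.card_le_card_of_injOn e ?_ e.injective.injOn) hS
        intro r hr
        rw [Finset.mem_coe, Finset.mem_disjSum] at hr
        rcases hr with ⟨i, hi, rfl⟩ | ⟨i, hi, rfl⟩
        · exact (Finset.mem_filter.1 hi).2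
        · exact (Finset.mem_filter.1 hi).2
      have h1 : B₁.det ∈ Jf (R := R) x S₁.card := by
        refine Ideal.subset_span ⟨B₁, S₁, le_rfl, ?_, rfl⟩
        intro i hi
        have hi' : e (Sum.inl i) ∉ S := fun h => hi (Finset.mem_filter.2 ⟨Finset.mem_univ _, h⟩)
        obtain ⟨u, hu, hbu⟩ := he₁ i
        have hB : B₁ i = u := by
          funext j
          change b (e (Sum.inl i)) (Sum.inl j) = u j
          rw [hbu]; rfl
        rw [hB]; exact hu hi'
      have h2 : B₂.det ∈ Jf (R := R) x' (l - S₁.card) := by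
        refine Jf_mono x' (by omega : S₂.card ≤ l - S₁.card)
          (Ideal.subset_span ⟨B₂, S₂, le_rfl, ?_, rfl⟩)
        intro i hi
        have hi' : e (Sum.inr i) ∉ S := fun h => hi (Finset.mem_filter.2 ⟨Finset.mem_univ _, h⟩)
        obtain ⟨u', hu', hbu'⟩ := hP₂ _ (he₂ i)
        have hB : B₂ i = u' := by
          funext j
          change b (e (Sum.inr i)) (Sum.inr j) = u' j
          rw [hbu']; rfl
        rw [hB]; exact hu' hi'
      have h3 : B₁.det * B₂.det ∈
          ∑ k ∈ Finset.range (l + 1), Jf (R := R) x k * Jf x' (l - k) := by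
        have hk : S₁.card ∈ Finset.range (l + 1) := by rw [Finset.mem_range]; omega
        rw [Ideal.sum_eq_sup]
        have hle : Jf (R := R) x S₁.card * Jf x' (l - S₁.card) ≤
            (Finset.range (l + 1)).sup (fun k => Jf (R := R) x k * Jf x' (l - k)) :=
          Finset.le_sup (f := fun k => Jf (R := R) x k * Jf x' (l - k)) hk
        exact hle (Ideal.mul_mem_mul h1 h2)
      have hdet : (b.submatrix e id).det = B₁.det * B₂.det := by
        rw [hblock, Matrix.det_fromBlocks_zero₂₁]
      have hperm := Matrix.det_permute e b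
      have h4 : b.det = ((Equiv.Perm.sign e : ℤˣ) : R) *
          (((Equiv.Perm.sign e : ℤˣ) : R) * b.det) := by
        rw [← mul_assoc]
        have hs : ((Equiv.Perm.sign e : ℤˣ) : R) * ((Equiv.Perm.sign e : ℤˣ) : R) = 1 := by
          rcases Int.units_eq_one_or (Equiv.Perm.sign e) with h | h <;> simp [h]
        rw [hs, one_mul]
      rw [h4, ← hperm, hdet]
      exact Ideal.mul_mem_left _ _ h3
    · have hzero : b.det = 0 := by
        rw [Matrix.det_apply]
        apply Finset.sum_eq_zero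
        intro σ _
        have hex : ∃ i, b (σ i) i = 0 := by
          by_contra hcon
          push Not at hcon
          apply hE
          refine ⟨σ, ?_, ?_⟩
          · intro i
            by_contra hP
            obtain ⟨u', -, hu'⟩ := hP₂ _ hP
            apply hcon (Sum.inl i)
            rw [hu']; rfl
          · intro i hP
            obtain ⟨u, -, hu⟩ := hP
            apply hcon (Sum.inr i)
            rw [hu]; rfl
        obtain ⟨i, hi⟩ := hex
        have hprod : ∏ i, b (σ i) i = 0 := Finset.prod_eq_zero (Finset.mem_univ i) hi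
        rw [hprod, smul_zero]
      rw [hzero]
      exact Ideal.zero_mem _
  refine (Ideal.span_le.2 ?_) hmem
  rintro d ⟨b, hb, rfl⟩
  exact hgen b hb

theorem fitt_prod (R : Type u) [CommRing R] (M M' : Type u) [AddCommGroup M] [Module R M]
    [AddCommGroup M'] [Module R M'] [Module.Finite R M] [Module.Finite R M'] (l : ℕ) :
    Fitt.ideal R (M × M') l =
      ∑ k ∈ Finset.range (l + 1), Fitt.ideal R M k * Fitt.ideal R M' (l - k) := by
  classical
  obtain ⟨n, x, hx⟩ := Module.Finite.exists_fin (R := R) (M := M)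
  obtain ⟨n', x', hx'⟩ := Module.Finite.exists_fin (R := R) (M := M')
  have hy : Submodule.span R (Set.range (sumFam R x x')) = ⊤ := by
    have hfam : sumFam R x x' = Sum.elim (LinearMap.inl R M M' ∘ x) (LinearMap.inr R M M' ∘ x') :=
      rfl
    rw [hfam, Set.Sum.elim_range, Submodule.span_union, Set.range_comp, Set.range_comp,
      Submodule.span_image, Submodule.span_image, hx, hx', Submodule.map_top, Submodule.map_top,
      LinearMap.sup_range_inl_inr]
  let e : Fin (n + n') ≃ Fin n ⊕ Fin n' := finSumFinEquiv.symm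
  have hye : Submodule.span R (Set.range (sumFam R x x' ∘ e)) = ⊤ := by
    rw [EquivLike.range_comp]; exact hy
  rw [fitt_eq_Jf (sumFam R x x' ∘ e) hye l, Jf_comp]
  have hsum : ∀ k, Fitt.ideal R M k * Fitt.ideal R M' (l - k) = Jf x k * Jf x' (l - k) := by
    intro k; rw [fitt_eq_Jf x hx, fitt_eq_Jf x' hx']
  simp only [hsum]
  apply le_antisymm
  · exact Jf_sumFam_le x x' l
  · rw [Ideal.sum_eq_sup]
    apply Finset.sup_le
    intro k hk
    have hk' : k ≤ l := by rw [Finset.mem_range] at hk; omega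
    have h := mul_le_Jf_sumFam (R := R) x x' k (l - k)
    rwa [Nat.add_sub_cancel' hk'] at h

end Groth.Agent.Helper19.FittSum
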